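import Groth.Agent.PicGroupFppf.GroupLaw
import Groth.Agent.PicSepSmooth.Proper
import Groth.Agent.PicNeutral.Proper
import Groth.Agent.Lib.AbDualBase

/-!
# Properness of the identity component of the Picard scheme of a proper smooth morphism
-/

set_option autoImplicit false
set_option linter.style.haveILetI false
set_option backward.isDefEq.respectTransparency false
set_option backward.isDefEq.respectTransparency.types false
set_option maxHeartbeats 1000000

universe u

open CategoryTheory CategoryTheory.Limits AlgebraicGeometry MonoidalCategory CartesianMonoidalCategory MonObj GrpObj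
open scoped Groth.Agent.H23.PicMul

namespace Groth.Agent.PicZeroProper

open Groth.Agent Groth.Agent.GrpSchLib Groth.Agent.GrpSchLib.Neutral

variable {X S : Scheme.{u}} {f : X ⟶ S} {P : Over S} {φ : ∀ T : Over S, PicF.Cl (PicF.XT f T) → (T ⟶ P)}
  (hP : AbDual.IsRelPicK Scheme.fppfPrecoverage f P φ) {P₀ : Over S}
  {φ₀ : ∀ T : Over S, PicF.Cl (PicF.XT f T) → (T ⟶ P₀)}
  (hP₀ : AbDual.IsRelPicZeroK Scheme.fppfPrecoverage f P₀ φ₀) (j : P₀ ⟶ P)
  (hj : ∀ (T : Over S) (c : PicF.Cl (PicF.XT f T)), AbDual.IsPicZeroCl f T c → φ₀ T c ≫ j = φ T c)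

omit hP in
theorem algEquiv_of_pz {Ω : Type u} [Field Ω] [IsAlgClosed Ω] (σ : Spec (CommRingCat.of Ω) ⟶ S)
    {c : PicF.Cl (PicF.XT f (Over.mk σ))} (h : AbDual.IsPicZeroCl f (Over.mk σ) c) :
    ∃ L : (pullback f σ).Modules, PicF.IsInvertible L ∧ c = PicF.cl L ∧
      @Pic13.IsAlgEquivZero Ω _ (pullback f σ) ⟨pullback.snd f σ⟩ L := by
  obtain ⟨L, rfl, hL, hLt⟩ := h
  haveI : Subsingleton ↥(Spec (CommRingCat.of Ω)) := inferInstanceAs (Subsingleton (PrimeSpectrum Ω))
  let p := PicF.XTproj f (Over.mk σ)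
  have hr : Set.range (𝟙 (Spec (CommRingCat.of Ω)) : _ ⟶ _).base = {IsLocalRing.closedPoint Ω} :=
    Set.eq_singleton_iff_unique_mem.2 ⟨⟨_, rfl⟩, fun _ _ => Subsingleton.elim _ _⟩
  have h0 := hLt (IsLocalRing.closedPoint Ω) Ω (𝟙 _) hr
  let e : pullback f σ ⟶ pullback p (𝟙 (Spec (CommRingCat.of Ω))) := pullback.lift (𝟙 _) p (by simp [p])
  refine ⟨L, hL, rfl, @AVDual.algEquivZero_of_iso Ω _ _ ⟨pullback.snd f σ⟩ _ _ ?_
    (AVDual.algEquivZero_pullback _ (pullback.snd f σ) e (pullback.lift_snd _ _ _) h0)⟩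
  exact (Scheme.Modules.pullbackComp _ _).app L ≪≫
    eqToIso (congrArg (fun m => (Scheme.Modules.pullback m).obj L) (pullback.lift_fst _ _ _)) ≪≫
    (Scheme.Modules.pullbackId _).app L

include hP in
/-- The point given by the trivial class lies on the unit section. -/
theorem phi_one_apply {T : Over S} (x : T.left) :
    letI := PicGroupFppf.grpObj hP
    (φ T 1).left x = unit P (T.hom x) := by
  let u : T ⟶ Over.mk (𝟙 S) := Over.homMk T.hom (Category.comp_id _)
  have h := PicGroupFppf.comp_one hP u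
  rw [← h, Over.comp_left]
  exact Scheme.Hom.comp_apply _ _ _

include hP hP₀ hj in
/-- The points of the identity component lie in the neutral components. -/
theorem mem_neutralSet (z : P₀.left) :
    letI := PicGroupFppf.grpObj hP
    j.left z ∈ SGA3x.neutralSet P := by
  letI := PicGroupFppf.grpObj hP
  let Ω := AlgebraicClosure (P₀.left.residueField z)
  let k : Spec (CommRingCat.of Ω) ⟶ P₀.left :=
    Spec.map (CommRingCat.ofHom (algebraMap (P₀.left.residueField z) Ω)) ≫ P₀.left.fromSpecResidueField z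
  have hk : k (IsLocalRing.closedPoint Ω) = z :=
    (Scheme.Hom.comp_apply _ _ _).trans (Scheme.fromSpecResidueField_apply _ _)
  let σ := k ≫ P₀.hom
  let T : Over S := Over.mk σ
  let g : T ⟶ P₀ := Over.homMk k rfl
  obtain ⟨c, hc, hcg⟩ : ∃ c : PicF.Cl (PicF.XT f T), AbDual.IsPicZeroCl f T c ∧ φ₀ T c = g := by
    obtain ⟨R, hR, hRu⟩ := hP₀.locallySurjective T g
    obtain ⟨I, U, u, rfl⟩ := Presieve.exists_eq_ofArrows R
    obtain ⟨i, a, -⟩ := ((Scheme.ofArrows_mem_precoverage_iff _).1 hR).1 (IsLocalRing.closedPoint Ω)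
    haveI : LocallyOfFinitePresentation (u i) := (((Scheme.ofArrows_mem_precoverage_iff _).1 hR).2 i).2
    let ui : U i ⟶ Spec (CommRingCat.of Ω) := u i
    haveI : LocallyOfFiniteType ui := inferInstanceAs (LocallyOfFiniteType (u i))
    haveI := LocallyOfFiniteType.jacobsonSpace ui
    obtain ⟨x, -, hx⟩ := nonempty_inter_closedPoints (X := U i) (Z := Set.univ) ⟨a, trivial⟩
      isOpen_univ.isLocallyClosed
    obtain ⟨s, hs⟩ : ∃ s : Spec (CommRingCat.of Ω) ⟶ U i, s ≫ ui = 𝟙 _ :=
      ⟨((pointEquivClosedPoint ui).symm ⟨x, hx⟩).1, ((pointEquivClosedPoint ui).symm ⟨x, hx⟩).2⟩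
    obtain ⟨c, hc, hcu⟩ := hRu (u i) (Presieve.ofArrows.mk i)
    let v : T ⟶ AbDual.ovr T (u i) := Over.homMk s (by
      show s ≫ ui ≫ σ = σ
      rw [← Category.assoc, hs, Category.id_comp])
    refine ⟨PicF.pullCl (PicF.XTmap f v) c, AbDualBase.pz_xtMap (B := Over.mk f) v hc, ?_⟩
    rw [hP₀.natural _ _ v c hc, hcu, ← Category.assoc,
      show v ≫ AbDual.ovrHom T (u i) = 𝟙 T from Over.OverMorphism.ext hs, Category.id_comp]
  have hφ : φ T c = g ≫ j := by rw [← hj T c hc, hcg]
  obtain ⟨L, hL, rfl, halg⟩ := algEquiv_of_pz σ hc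
  obtain ⟨T', q, hT', -, -, M, hM, t, t₀, ht, ht₀, ⟨ea⟩, ⟨eb⟩⟩ := halg
  haveI := hT'
  let TT : Over S := Over.mk (q ≫ σ)
  let m : PicF.XT f TT ⟶ pullback (pullback.snd f σ) q :=
    pullback.lift (pullback.lift (pullback.fst f TT.hom) (pullback.snd f TT.hom ≫ q)
      (by rw [Category.assoc]; exact pullback.condition)) (pullback.snd f TT.hom) (pullback.lift_snd _ _ _)
  let cM : PicF.Cl (PicF.XT f TT) := PicF.pullCl m (PicF.cl M)
  have hcM : PicF.IsInvertibleCl cM := PicLoc.isInvertibleCl_pullCl _ ⟨M, rfl, hM⟩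
  let ψ := φ TT cM
  letI : (pullback f σ).Over (Spec (CommRingCat.of Ω)) := ⟨pullback.snd f σ⟩
  have key : ∀ (s : Spec (CommRingCat.of Ω) ⟶ T') (hs : s ≫ q = 𝟙 _) (N : (pullback f σ).Modules)
      (_ : Pic13.fibreMod Ω (pullback f σ) q s hs M ≅ N),
      φ T (PicF.cl N) = (Over.homMk s (by show s ≫ q ≫ σ = σ; rw [← Category.assoc, hs, Category.id_comp]) : T ⟶ TT) ≫ ψ := by
    intro s hs N e
    let u : T ⟶ TT := Over.homMk s (by show s ≫ q ≫ σ = σ; rw [← Category.assoc, hs, Category.id_comp])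
    refine (congrArg (φ T) ?_).trans (hP.natural TT T u cM hcM)
    have hmap : PicF.XTmap f u ≫ m = Pic13.sliceAt Ω (pullback f σ) q s hs := by
      have h1 : PicF.XTmap f u ≫ pullback.fst f TT.hom = pullback.fst f σ := SeesawX.PicSep.XTmap_fst f u
      have h2 : PicF.XTmap f u ≫ pullback.snd f TT.hom = pullback.snd f σ ≫ s := SeesawX.PicSep.XTmap_snd f u
      refine pullback.hom_ext ?_ ?_
      · rw [Category.assoc, pullback.lift_fst]
        refine (pullback.hom_ext ?_ ?_).trans (pullback.lift_fst _ _ _).symm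
        · rw [Category.assoc, pullback.lift_fst, h1]
          exact (Category.id_comp _).symm
        · rw [Category.assoc, pullback.lift_snd, ← Category.assoc, h2, Category.assoc, hs]
          exact (Category.comp_id _).trans (Category.id_comp _).symm
      · rw [Category.assoc, pullback.lift_snd, h2]
        exact (pullback.lift_snd _ _ _).symm
    rw [PicClLib.pullCl_comp, hmap]
    exact (H23.PicMul.cl_eq_iff.2 ⟨e⟩).symm
  let p := IsLocalRing.closedPoint Ω
  have h1 : ψ.left (t p) = j.left z := by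
    have h := congrArg (fun a : T ⟶ P => a.left p) ((key t ht L ea).symm.trans hφ)
    simp only [Over.comp_left, Scheme.Hom.comp_apply] at h
    refine h.trans (congrArg j.left ?_)
    exact hk
  have h0 : ψ.left (t₀ p) = unit P (σ p) := by
    have h := congrArg (fun a : T ⟶ P => a.left p) (key t₀ ht₀ (Coh.structureModule _) eb)
    simp only [Over.comp_left, Scheme.Hom.comp_apply] at h
    exact h.symm.trans (phi_one_apply hP (T := T) p)
  rw [mem_neutralSet_iff]
  have hfib : P.hom (j.left z) = σ p := by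
    rw [← Scheme.Hom.comp_apply, Over.w j]
    exact (congrArg P₀.hom hk).symm.trans (Scheme.Hom.comp_apply _ _ _).symm
  rw [hfib]
  haveI : PreconnectedSpace ↥TT.left := hT'.toPreconnectedSpace
  refine (isPreconnected_range ψ.left.continuous).subset_connectedComponentIn ⟨t₀ p, h0⟩ ?_ ⟨t p, h1⟩
  rintro _ ⟨w, rfl⟩
  show P.hom (ψ.left w) = σ p
  rw [← Scheme.Hom.comp_apply, Over.w ψ]
  exact (Scheme.Hom.comp_apply q σ w).trans
    (congrArg σ (@Subsingleton.elim ↥(Spec (CommRingCat.of Ω)) inferInstance _ _))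

include hP hj in
/-- The neutral components lie in the identity component. -/
theorem neutralSet_subset [IsOpenImmersion j.left] [IsClosedImmersion j.left] :
    letI := PicGroupFppf.grpObj hP
    SGA3x.neutralSet P ⊆ Set.range j.left := by
  letI := PicGroupFppf.grpObj hP
  intro x hx
  have hu : unit P (P.hom x) ∈ Set.range j.left := by
    have h : η[P] = φ₀ (Over.mk (𝟙 S)) 1 ≫ j := by
      rw [hj _ 1 (AbDualBase.pz_one (A := Over.mk f) _)]
      exact PicGroupFppf.one_eq hP
    refine ⟨(φ₀ (Over.mk (𝟙 S)) 1).left (P.hom x), ?_⟩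
    show j.left _ = (η[P]).left (P.hom x)
    rw [h, Over.comp_left]
    exact (Scheme.Hom.comp_apply _ _ _).symm
  rw [mem_neutralSet_iff] at hx
  exact isPreconnected_connectedComponentIn.subset_isClopen
    ⟨j.left.isClosedEmbedding.isClosed_range, j.left.isOpenEmbedding.isOpen_range⟩
    ⟨_, mem_connectedComponentIn (hom_unit P _), hu⟩ hx

omit hP hP₀ hj j in
/-- The fibres of a closed open subscheme, of finite type, of the Picard scheme are proper. -/
theorem isProper_fibre [IsProper f] [Smooth f] (hP : PicSepSmooth.IsFlatLocal f φ) (V : P.left.Opens)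
    (hV : IsClosed (V : Set P.left)) [LocallyOfFiniteType (V.ι ≫ P.hom)] [QuasiCompact (V.ι ≫ P.hom)] (s : S) :
    IsProper ((V.ι ≫ P.hom).fiberToSpecResidueField s) := by
  haveI : IsSeparated P.hom := PicSepSmooth.isSeparated hP
  let r := V.ι ≫ P.hom
  let q := r.fiberToSpecResidueField s
  haveI : LocallyOfFiniteType q := MorphismProperty.pullback_snd (P := @LocallyOfFiniteType) _ _ inferInstance
  haveI : QuasiCompact q := MorphismProperty.pullback_snd (P := @QuasiCompact) _ _ inferInstance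
  haveI : IsSeparated q := MorphismProperty.pullback_snd (P := @IsSeparated) _ _ inferInstance
  refine (S2335.result q).2 fun R _ _ _ x y hxy => ?_
  let K := FractionRing R
  let jK := Spec.map (CommRingCat.ofHom (algebraMap R K))
  let b := y ≫ S.fromSpecResidueField s
  let gK := (x ≫ r.fiberι s) ≫ V.ι
  have hg : gK ≫ P.hom = jK ≫ b := by
    show ((x ≫ r.fiberι s) ≫ V.ι) ≫ P.hom = jK ≫ y ≫ S.fromSpecResidueField s
    rw [← Category.assoc jK, ← hxy, Category.assoc, Category.assoc, Category.assoc]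
    exact congrArg (x ≫ ·) pullback.condition
  obtain ⟨K', _, _, R', φR, hloc, hφ, l, hl, hlj⟩ := PicSepSmooth.exists_extension hP b gK hg
  haveI := hloc
  obtain ⟨m, hm, hjm⟩ := PicSepSmooth.exists_lift_of_extension P.hom R' φR hφ b gK l hl hlj
  haveI : IsDominant jK := ⟨(PrimeSpectrum.denseRange_comap_iff_ker_le_nilRadical _).2 (by
    show RingHom.ker (algebraMap R K) ≤ _
    rw [(RingHom.injective_iff_ker_eq_bot (algebraMap R K)).1 (IsFractionRing.injective R K)]; exact bot_le)⟩
  have hmV : Set.range m ⊆ Set.range V.ι := by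
    rw [Scheme.Opens.range_ι]
    have : closure (Set.range jK) ⊆ m ⁻¹' (V : Set P.left) := by
      refine closure_minimal ?_ (hV.preimage m.continuous)
      rintro _ ⟨w, rfl⟩
      show m (jK w) ∈ V
      rw [← Scheme.Hom.comp_apply, hjm, Scheme.Hom.comp_apply]
      exact ((x ≫ r.fiberι s) w).2
    rintro _ ⟨v, rfl⟩
    exact this (jK.denseRange v)
  let mV := IsOpenImmersion.lift V.ι m hmV
  have hmr : mV ≫ r = y ≫ S.fromSpecResidueField s := by
    show mV ≫ V.ι ≫ P.hom = _
    rw [IsOpenImmersion.lift_fac_assoc, hm]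
  let l' : Spec (CommRingCat.of R) ⟶ r.fiber s := pullback.lift mV y hmr
  have hl' : jK ≫ l' = x := by
    refine pullback.hom_ext ?_ ?_
    · rw [Category.assoc, pullback.lift_fst, ← cancel_mono V.ι, Category.assoc, IsOpenImmersion.lift_fac]
      exact hjm
    · rw [Category.assoc, pullback.lift_snd]
      exact hxy.symm
  refine ⟨l', ⟨pullback.lift_snd _ _ _, hl'⟩, fun m' ⟨h1, h2⟩ => ?_⟩
  exact ext_of_isDominant_of_isSeparated q (h1.trans (pullback.lift_snd _ _ _).symm) jK (h2.trans hl'.symm)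

include hP hP₀ hj in
theorem isProper [IsProper f] [Smooth f] [LocallyOfFinitePresentation P.hom] [IsOpenImmersion j.left]
    [IsClosedImmersion j.left] : IsProper P₀.hom := by
  letI := PicGroupFppf.grpObj hP
  have hQ := PicSepSmooth.of_isRelPicK hP
  haveI : IsSeparated P.hom := PicSepSmooth.isSeparated hQ
  let V := j.left.opensRange
  have hV : (V : Set P.left) = SGA3x.neutralSet P := by
    refine Set.Subset.antisymm ?_ (neutralSet_subset hP j hj)
    rintro _ ⟨z, rfl⟩
    exact mem_neutralSet hP hP₀ j hj z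
  haveI := PicNeutral.quasiCompact_of_eq_neutralSet P V hV
  have hfib := isProper_fibre hQ V j.left.isClosedEmbedding.isClosed_range
  have hu : Set.range (unit P) ⊆ Set.range V.ι := by
    rw [Scheme.Opens.range_ι, hV]
    exact Set.range_subset_iff.mpr fun s => unit_mem_neutralSet P s
  obtain ⟨U, hU, hUp⟩ := S3461.result (V.ι ≫ P.hom) (𝟙 S) (Or.inl inferInstance)
    (IsOpenImmersion.lift V.ι (unit P) hu) (by rw [IsOpenImmersion.lift_fac_assoc]; exact Over.w η[P])
    (PicNeutral.nGeomConnComp_le_one P V hV)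
  have hUt : U = ⊤ := TopologicalSpace.Opens.ext (hU.trans (Set.eq_univ_of_forall hfib))
  subst hUt
  haveI : IsProper (V.ι ≫ P.hom) :=
    IsZariskiLocalAtTarget.of_iSup_eq_top (P := @IsProper) (fun _ : PUnit.{u+1} => (⊤ : S.Opens)) iSup_const
      fun _ => hUp
  rw [← Over.w j, ← j.left.isoOpensRange_hom_ι, Category.assoc]
  infer_instance

end Groth.Agent.PicZeroProper
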